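import Groth.Agent.Lib.HypAnn28.Res
import Groth.Agent.Lib.KEuler6.Tor
import Groth.Agent.Lib.KoszulLift28.Lift
import Groth.Agent.Lib.Cyc26.KoszulH1
import Groth.Agent.Lib.RegImm26.FlatQuot
import Groth.Agent.Lib.TorBal27.Balance

/-!
# `Tor` of the powers of a Koszul regular ideal
-/

universe u

noncomputable section

open CategoryTheory CategoryTheory.Limits TensorProduct
open Groth.Agent.CanElt (KObj kd k0)

namespace Groth.Agent.KosPowTor28

set_option linter.style.haveILetI false

variable {A : Type u} [CommRing A] {M : ModuleCat.{u} A} (Pr : ProjectiveResolution M)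

/-- Vanishing of the positive `Tor` against a fixed module. -/
def V (N : Type u) [AddCommGroup N] [Module A N] : Prop :=
  ∀ i : ℕ, ResExact.Ex (X := fun j => Pr.complex.X j) (FlatSyz.dLin Pr) N i

instance (j : ℕ) : Module.Flat A (Pr.complex.X j) :=
  haveI : Module.Projective A (Pr.complex.X j) := (IsProjective.iff_projective (R := A) (Pr.complex.X j)).2 (Pr.projective j)
  inferInstance

theorem V_of_ses {N N₁ N₂ : Type u} [AddCommGroup N] [Module A N] [AddCommGroup N₁] [Module A N₁]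
    [AddCommGroup N₂] [Module A N₂] {f : N₁ →ₗ[A] N} {g : N →ₗ[A] N₂} (hf : Function.Injective f)
    (hfg : Function.Exact f g) (hg : Function.Surjective g) (h₁ : V Pr N₁) (h₂ : V Pr N₂) : V Pr N := fun i =>
  ResExact.ex_of_ses (X := fun j => Pr.complex.X j) (ResExact.dLin_comp Pr) hf hfg hg i (h₁ i) (h₂ i)

theorem V_of_subsingleton (N : Type u) [AddCommGroup N] [Module A N] [Subsingleton N] : V Pr N := fun i z => by
  constructor
  · exact fun _ => ⟨0, (Subsingleton.elim _ _)⟩
  · exact fun _ => Subsingleton.elim _ _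

theorem V_of_equiv {N N' : Type u} [AddCommGroup N] [Module A N] [AddCommGroup N'] [Module A N'] (e : N ≃ₗ[A] N')
    (h : V Pr N) : V Pr N' :=
  V_of_ses Pr (N₂ := PUnit.{u + 1}) (f := e.toLinearMap) (g := 0) e.injective
    (fun x => ⟨fun _ => e.surjective x, fun _ => rfl⟩) (fun x => ⟨0, Subsingleton.elim _ _⟩) h (V_of_subsingleton Pr _)

theorem V_finsupp (ι : Type) (N : Type u) [AddCommGroup N] [Module A N] (h : V Pr N) : V Pr (ι →₀ N) := fun i => by
  classical
  refine ResExact.ex_of_ker_le (X := fun j => Pr.complex.X j) (ResExact.dLin_comp Pr) i fun z hz => ?_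
  let e : ∀ j, (ι →₀ N) ⊗[A] Pr.complex.X j ≃ₗ[A] ι →₀ N ⊗[A] Pr.complex.X j := fun j =>
    TensorProduct.finsuppLeft A A N (Pr.complex.X j) ι
  have key : ∀ (j : ℕ) (x : (ι →₀ N) ⊗[A] Pr.complex.X (j + 1)) (a : ι),
      e j ((FlatSyz.dLin Pr j).lTensor (ι →₀ N) x) a = (FlatSyz.dLin Pr j).lTensor N (e (j + 1) x a) := by
    intro j x a
    induction x with
    | zero => simp
    | add p q hp hq => simp only [map_add, Finsupp.add_apply, hp, hq]
    | tmul p q => simp [e, TensorProduct.finsuppLeft_apply_tmul_apply]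
  have hcyc : ∀ a, ∃ w, (FlatSyz.dLin Pr (i + 1)).lTensor N w = e (i + 1) z a := fun a =>
    (h i _).1 (by rw [← key, hz, map_zero, Finsupp.zero_apply])
  choose w hw using hcyc
  let W : ι →₀ N ⊗[A] Pr.complex.X (i + 1 + 1) :=
    (e (i + 1) z).support.sum fun a => Finsupp.single a (w a)
  refine ⟨(e (i + 1 + 1)).symm W, (e (i + 1)).injective (Finsupp.ext fun a => ?_)⟩
  rw [key, LinearEquiv.apply_symm_apply]
  simp only [W, Finsupp.finsetSum_apply, Finsupp.single_apply, Finset.sum_ite_eq']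
  by_cases ha : a ∈ (e (i + 1) z).support
  · rw [if_pos ha, hw]
  · rw [if_neg ha, map_zero, Finsupp.notMem_support_iff.1 ha]

theorem isZero_tor_of_V (N : Type u) [AddCommGroup N] [Module A N] (h : V Pr N) (i : ℕ) :
    IsZero (((Tor (ModuleCat.{u} A) (i + 1)).obj (ModuleCat.of A N)).obj M) :=
  (ResExact.isZero_tor_iff_ex Pr N i).2 (h i)

section Base

variable (A' : Type u) [CommRing A'] [Algebra A A']

/-- `A/J` has no positive `Tor` against `A'`. -/
theorem V_quot (fs : List A) (hfs : LCI.IsKoszulRegularSeq A fs)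
    (hfs' : LCI.IsKoszulRegularSeq A' (fs.map (algebraMap A A'))) (Q : ProjectiveResolution (ModuleCat.of A A')) :
    V Q (A ⧸ Ideal.ofList fs) := by
  have hA : CI2.Ex A A fs := (CI2.isKoszulRegularSeq_iff_ex fs).1 hfs
  let ψ : A' →ₛₗ[algebraMap A A'] A' :=
    { toFun := id
      map_add' := fun _ _ => rfl
      map_smul' := fun a x => Algebra.smul_def a x }
  have hA' : CI2.Ex A A' fs :=
    KoszulLift28.ex_of_kmap_bijective ψ Function.bijective_id ((CI2.isKoszulRegularSeq_iff_ex _).1 hfs')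
  haveI : ∀ i, Module.Projective A (KObj A A fs i) := CanElt.projective_KObj A A fs
  let π : KObj A A fs 0 →ₗ[A] A ⧸ Ideal.ofList fs := (Ideal.ofList fs).mkQ ∘ₗ (k0 A A fs).toLinearMap
  have hπd : Function.Exact (kd A A fs 0) π := fun v => by
    show Submodule.Quotient.mk (k0 A A fs v) = (0 : A ⧸ Ideal.ofList fs) ↔ v ∈ LinearMap.range (kd A A fs 0)
    rw [Submodule.Quotient.mk_eq_zero, CanElt.mem_range_kd_zero, smul_eq_mul, Ideal.mul_top]
  have hπ : Function.Surjective π := (Submodule.mkQ_surjective _).comp (k0 A A fs).surjective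
  have hd : ∀ n, Function.Exact (kd A A fs (n + 1)) (kd A A fs n) := fun n z =>
    ⟨fun hz => hA n z hz, by rintro ⟨w, rfl⟩; exact CanElt.kd_kd A A fs n w⟩
  let R := HypAnn28.mkRes (X := fun i => KObj A A fs i) (fun i => kd A A fs i) π hd hπd hπ
  have hR : ∀ i, IsZero (((Tor (ModuleCat.{u} A) (i + 1)).obj (ModuleCat.of A A')).obj
      (ModuleCat.of A (A ⧸ Ideal.ofList fs))) := by
    intro i
    refine (ResExact.isZero_tor_iff_ex R A' i).2 ?_
    rw [show FlatSyz.dLin R = fun i => kd A A fs i from funext (HypAnn28.mkRes_dLin _ π hd hπd hπ)]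
    refine ResExact.ex_of_ker_le (X := fun i => KObj A A fs i) (fun i => LinearMap.ext (CanElt.kd_kd A A fs i)) i
      fun z hz => ?_
    obtain ⟨w, hw⟩ := hA' i (KEuler6.tk A A' fs (i + 1) z) (by
      rw [← KEuler6.tk_kd, hz]; exact map_zero _)
    refine ⟨(KEuler6.tk A A' fs (i + 1 + 1)).symm w, (KEuler6.tk A A' fs (i + 1)).injective ?_⟩
    rw [KEuler6.tk_kd, LinearEquiv.apply_symm_apply, hw]
  intro i
  refine (ResExact.isZero_tor_iff_ex Q _ i).1 ?_
  obtain ⟨e⟩ := TorBal27.nonempty_tor_iso_flip (R := A) (i + 1)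
  exact (hR i).of_iso ((e.app (ModuleCat.of A (A ⧸ Ideal.ofList fs))).app (ModuleCat.of A A'))

end Base

section Pow

variable {c : ℕ} (f : Fin c → A)

theorem V_quot_pow (hf : CAlgX.IsQuasiRegular f) (h : V Pr (A ⧸ Ideal.span (Set.range f))) (n : ℕ) :
    V Pr (A ⧸ Ideal.span (Set.range f) ^ n) := by
  induction n with
  | zero =>
    haveI : Subsingleton (A ⧸ Ideal.span (Set.range f) ^ 0) := by
      rw [pow_zero]; exact Ideal.Quotient.subsingleton_iff.2 Ideal.one_eq_top
    exact V_of_subsingleton Pr _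
  | succ n ih =>
    exact V_of_ses Pr (RegImm26.grMap_injective f hf n) (RegImm26.grMap_exact f n)
      (fun z => by obtain ⟨x, rfl⟩ := Submodule.Quotient.mk_surjective _ z; exact ⟨Submodule.Quotient.mk x, rfl⟩)
      (V_finsupp Pr _ _ h) ih

theorem V_graded (hf : CAlgX.IsQuasiRegular f) (h : V Pr (A ⧸ Ideal.span (Set.range f))) (n : ℕ) :
    V Pr (↥(Ideal.span (Set.range f) ^ n) ⧸
      Submodule.comap (Ideal.span (Set.range f) ^ n).subtype (Ideal.span (Set.range f) ^ (n + 1))) := by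
  set J := Ideal.span (Set.range f)
  let i : (↥(J ^ n) ⧸ Submodule.comap (J ^ n).subtype (J ^ (n + 1))) →ₗ[A] A ⧸ J ^ (n + 1) :=
    Submodule.mapQ _ _ (J ^ n).subtype le_rfl
  have hi : Function.Injective i := by
    rw [← LinearMap.ker_eq_bot, Submodule.ker_mapQ, Submodule.mkQ_map_self]
  have hr : LinearMap.range (RegImm26.grMap f n) = LinearMap.range i := by
    rw [← (RegImm26.grMap_exact f n).linearMap_ker_eq]
    refine le_antisymm (fun z hz => ?_) ?_
    · obtain ⟨x, rfl⟩ := Submodule.Quotient.mk_surjective _ z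
      exact ⟨Submodule.Quotient.mk ⟨x, (Submodule.Quotient.mk_eq_zero _).1 hz⟩, rfl⟩
    · rintro _ ⟨y, rfl⟩
      obtain ⟨y, rfl⟩ := Submodule.Quotient.mk_surjective _ y
      exact (Submodule.Quotient.mk_eq_zero _).2 y.2
  exact V_of_equiv Pr (((LinearEquiv.ofInjective _ (RegImm26.grMap_injective f hf n)).trans
    (LinearEquiv.ofEq _ _ hr)).trans (LinearEquiv.ofInjective i hi).symm) (V_finsupp Pr _ _ h)

end Pow

end Groth.Agent.KosPowTor28
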